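/-
Generation of Chevalley groups by the monomial subgroup and fundamental root subgroups.
-/
import Cfsg.Agent.ChevMult.SmallCases
import Cfsg.Agent.Chev.GoodAll
import Cfsg.Prelude.Def_ChevAutomorphisms

set_option autoImplicit false

namespace CfsgLib.ChevGen

open Cfsg.Lie CfsgLib.Chev CfsgLib.ChevMult
open scoped commutatorElement MatrixGroups

/-- Words taking roots to fundamental roots, words between fundamental roots, and roots as sums. -/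
structure GenCert where
  /-- words for the roots -/
  ws : List (List ℕ)
  /-- words between fundamental roots -/
  paths : List (List (Option (List ℕ)))
  /-- summands -/
  sums : List (ℕ × ℕ)

variable {D : ChevalleyDatum} (T : Tab D)

/-- The root has the orbit of the node. -/
def inOrb (C : GenCert) (i r : ℕ) : Bool :=
  let L := C.ws.getD r []
  L.all (fun q => Nat.blt q D.rank) &&
  (List.range D.rank).any fun k => Nat.beq (T.wordT L r) (D.simple k) &&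
    match (C.paths.getD i []).getD k none with
    | some P => P.all (fun q => Nat.blt q D.rank) && Nat.beq (T.wordT P (D.simple k)) (D.simple i)
    | none => false

/-- The root elements of `r` come from those of the given nodes. -/
def chkGen (C : GenCert) (is : List ℕ) (U : List ℕ) (r : ℕ) : Bool :=
  (is.any fun i => inOrb T C i r) ||
    (let a := (C.sums.getD r (0, 0)).1
     let b := (C.sums.getD r (0, 0)).2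
     Nat.blt a D.nroots && Nat.blt b D.nroots && !(Nat.beq b a) && !(Nat.beq b (Tab.negR D a)) &&
     (is.any fun i => inOrb T C i a) && (is.any fun i => inOrb T C i b) &&
     match T.commT a b with
     | [c] => Nat.beq c.1 r && Nat.beq c.2.2.1 1 && Nat.beq c.2.2.2 1 && U.elem c.2.1.natAbs
     | _ => false)

/-- The check for every short node. -/
def chkShort (C : GenCert) (U : List ℕ) : Bool :=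
  allBelow (fun i => D.isLong (D.simple i) || allBelow (chkGen T C [i] U) D.nroots) D.rank

/-- The check for every joined short and long node. -/
def chkPairGen (C : GenCert) : Bool :=
  allBelow (fun i => allBelow (fun j =>
    !(!(D.isLong (D.simple i)) && D.isLong (D.simple j) && decide (D.bonds i j ≠ 0)) ||
      allBelow (chkGen T C [i, j] []) D.nroots) D.rank) D.rank

variable {T} (G : T.Good) {F : Type*} [Field F]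

include G in
theorem x_mem_rootSubgroup {r : ℕ} (t : F) :
    G.full.x r t ∈ D.rootSubgroup F r :=
  Subgroup.subset_closure ⟨t, G.full.coe_x' r t⟩

include G in
theorem group_le_of_chk {C : GenCert} {is : List ℕ} {U : List ℕ}
    (hU : ∀ c ∈ U, (c : F) ≠ 0) (h : allBelow (chkGen T C is U) D.nroots = true)
    (K : Subgroup (GL D.Idx F)) (hN : D.monomialSubgroup F ≤ K)
    (hX : ∀ i ∈ is, D.rootSubgroup F (D.simple i) ≤ K) : D.group F ≤ K := by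
  have hnw : ∀ L : List (Fin D.rank), G.full.nw F L ∈ K := fun L => hN (G.nw_mem_monomial L)
  have move : ∀ {r : ℕ}, r < D.nroots → ∀ Ln : List ℕ, (∀ q ∈ Ln, q < D.rank) →
      T.wordT Ln r < D.nroots ∧
        ((∀ t : F, G.full.x (T.wordT Ln r) t ∈ K) → ∀ t : F, G.full.x r t ∈ K) := by
    intro r hr Ln hLn
    let L : List (Fin D.rank) := Ln.pmap (fun i hi => (⟨i, hi⟩ : Fin D.rank)) hLn
    have hLv : L.map Fin.val = Ln := by simp [L, List.map_pmap]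
    refine ⟨?_, fun h t => ?_⟩
    · rw [← hLv]; exact (nw_conj (G := G) (F := F) L hr 1).1
    · have e := (nw_conj (G := G) L hr t).2
      rw [hLv] at e
      have h2 : G.full.nw F L * G.full.x r t * (G.full.nw F L)⁻¹ ∈ K := e ▸ h _
      rwa [Subgroup.mul_mem_cancel_right _ (inv_mem (hnw L)),
        Subgroup.mul_mem_cancel_left _ (hnw L)] at h2
  have horb : ∀ {i r : ℕ}, i ∈ is → r < D.nroots → inOrb T C i r = true →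
      ∀ t : F, G.full.x r t ∈ K := by
    intro i r hi hr ho
    simp only [inOrb, Bool.and_eq_true, List.all_eq_true, Nat.blt_eq, List.any_eq_true,
      List.mem_range, Nat.beq_eq] at ho
    obtain ⟨hL, k, hk, e, hP⟩ := ho
    split at hP
    swap
    · exact absurd hP (by simp)
    rename_i P _
    simp only [Bool.and_eq_true, List.all_eq_true, Nat.blt_eq, Nat.beq_eq] at hP
    refine (move hr _ hL).2 ?_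
    rw [e]
    refine (move (G.full.simple_lt hk) P hP.1).2 ?_
    rw [hP.2]
    exact fun t => hX i hi (x_mem_rootSubgroup G t)
  refine G.group_le_iff.2 fun r hr t => ?_
  have hr' := (allBelow_iff _ _).1 h r hr
  simp only [chkGen, Bool.or_eq_true, List.any_eq_true, Bool.and_eq_true, Nat.blt_eq,
    Bool.not_eq_true'] at hr'
  rcases hr' with ⟨i, hi, ho⟩ | ⟨⟨⟨⟨⟨⟨ha, hb⟩, hba⟩, hbn⟩, ⟨i, hi, hoa⟩⟩, ⟨j, hj, hob⟩⟩, hc⟩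
  · exact horb hi hr ho t
  split at hc
  swap
  · exact absurd hc (by simp)
  rename_i c hcc
  simp only [Bool.and_eq_true, Nat.beq_eq, List.elem_eq_mem, decide_eq_true_eq] at hc
  obtain ⟨⟨⟨e1, e2⟩, e3⟩, e4⟩ := hc
  have hC : (c.2.1 : F) ≠ 0 := by
    have := hU _ e4
    rcases Int.natAbs_eq c.2.1 with e | e <;> rw [e]
    · rwa [Int.cast_natCast]
    · rwa [Int.cast_neg, Int.cast_natCast, neg_ne_zero]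
  have e := x_commutator (G := G) (F := F) ha hb (beq_false' hba) (beq_false' hbn)
    (t / (c.2.1 : F)) (-1)
  rw [hcc] at e
  simp only [rhsWord, List.map_cons, List.map_nil, List.prod_cons, List.prod_nil, mul_one, e1, e2,
    e3, pow_one, neg_neg, mul_div_cancel₀ _ hC] at e
  rw [← e, commutatorElement_def]
  exact mul_mem (mul_mem (mul_mem (horb hj hb hob _) (horb hi ha hoa _))
    (inv_mem (horb hj hb hob _))) (inv_mem (horb hi ha hoa _))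

/-- Words for G2. -/
def genG2 : GenCert where
  ws := [[1, 0, 1], [1, 0], [0, 1, 0], [0, 1], [0], [1], [], [], [1], [1, 0], [0], [0, 1]]
  paths := [[some [], none], [none, some []]]
  sums := [(2, 3), (2, 4), (0, 0), (0, 0), (0, 0), (3, 7), (4, 8), (0, 0), (0, 0), (0, 0), (7, 9), (8, 9)]

/-- Words for B2. -/
def genB2 : GenCert where
  ws := [[1, 0], [0, 1], [0], [1], [], [], [1], [0]]
  paths := [[some [], none], [none, some []]]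
  sums := [(1, 2), (0, 0), (0, 0), (1, 5), (2, 6), (0, 0), (0, 0), (5, 6)]

/-- Words for D4. -/
def genD4 : GenCert where
  ws := [[0, 1, 2, 3, 1], [0, 1, 2, 3], [0, 1, 2], [0, 1, 3], [0, 1], [0], [1, 2, 3], [1, 2], [1, 3], [1], [2], [3], [], [], [], [3], [2], [2, 3], [], [1], [1, 3], [1, 2], [1, 2, 3], [1, 2, 3, 1]]
  paths := [[some [], some [1, 0], some [1, 0, 2, 1], some [1, 0, 3, 1]], [some [0, 1], some [], some [2, 1], some [3, 1]], [some [1, 0, 2, 1], some [1, 2], some [], some [1, 2, 3, 1]], [some [1, 0, 3, 1], some [1, 3], some [1, 2, 3, 1], some []]]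
  sums := []

/-- Words for F4. -/
def genF4 : GenCert where
  ws := [[2, 1, 0, 3, 2, 1, 2, 3], [2, 1, 0, 3, 2, 1, 2], [2, 1, 0, 3, 2, 1], [0, 1, 2, 1, 3, 2, 1, 0], [2, 1, 0, 3, 2], [2, 1, 0, 3], [2, 1, 0], [0, 1, 2, 1, 3, 2, 1], [0, 1, 2, 1, 3, 2], [0, 1, 2, 1, 3], [0, 1, 2, 1], [0, 1, 2, 3], [0, 1, 2], [0, 1], [0], [2, 1, 3, 2], [2, 1, 3], [2, 1], [1, 2, 3], [1, 2], [1], [2, 3], [2], [3], [], [], [3], [], [2], [2, 3], [1], [1, 3], [1, 3, 2], [], [1], [1, 2], [1, 2, 3], [1, 2, 1], [1, 2, 1, 3], [1, 2, 1, 3, 2], [1, 2, 1, 3, 2, 1], [1, 0], [1, 0, 3], [1, 0, 3, 2], [1, 2, 1, 3, 2, 1, 0], [1, 0, 3, 2, 1], [1, 0, 3, 2, 1, 2], [1, 0, 3, 2, 1, 2, 3]]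
  paths := [[some [], some [1, 0], none, none], [some [0, 1], some [], none, none], [none, none, some [], some [3, 2]], [none, none, some [2, 3], some []]]
  sums := [(3, 18), (3, 19), (3, 20), (0, 0), (3, 27), (3, 28), (3, 29), (0, 0), (0, 0), (0, 0), (0, 0), (0, 0), (0, 0), (0, 0), (0, 0), (7, 34), (7, 35), (7, 36), (0, 0), (0, 0), (0, 0), (8, 37), (8, 38), (9, 37), (10, 38), (9, 39), (10, 39), (0, 0), (0, 0), (0, 0), (11, 40), (12, 40), (13, 40), (0, 0), (0, 0), (0, 0), (0, 0), (0, 0), (0, 0), (0, 0), (0, 0), (18, 44), (19, 44), (20, 44), (0, 0), (27, 44), (28, 44), (29, 44)]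

/-- Words for E6. -/
def genE6 : GenCert where
  ws := [[0, 2, 3, 1, 4, 3, 2, 5, 4, 3, 1], [0, 2, 3, 1, 4, 3, 2, 5, 4, 3], [0, 2, 3, 1, 4, 3, 2, 5, 4], [0, 2, 3, 1, 4, 3, 2, 5], [0, 2, 3, 1, 4, 3, 2], [0, 2, 3, 1, 4, 3, 5, 4], [0, 2, 3, 1, 4, 3, 5], [0, 2, 3, 1, 4, 3], [0, 2, 3, 1, 4, 5], [0, 2, 3, 1, 4], [0, 2, 3, 1], [0, 2, 3, 4, 5], [0, 2, 3, 4], [0, 2, 3], [0, 2], [0], [1, 3, 2, 4, 3, 5, 4], [1, 3, 2, 4, 3, 5], [1, 3, 2, 4, 3], [1, 3, 2, 4, 5], [1, 3, 2, 4], [1, 3, 2], [1, 3, 4, 5], [1, 3, 4], [1, 3], [1], [2, 3, 4, 5], [2, 3, 4], [2, 3], [2], [3, 4, 5], [3, 4], [3], [4, 5], [4], [5], [], [], [5], [], [4], [4, 5], [], [3], [3, 4], [3, 4, 5], [], [3], [3, 4], [3, 4, 5], [3, 2], [3, 2, 4], [3, 2, 4, 5], [3, 2, 4, 3], [3, 2, 4, 3, 5], [3, 2, 4, 3, 5, 4], [], [2], [2, 3], [2, 3,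 4], [2, 3, 4, 5], [2, 3, 1], [2, 3, 1, 4], [2, 3, 1, 4, 5], [2, 3, 1, 4, 3], [2, 3, 1, 4, 3, 5], [2, 3, 1, 4, 3, 5, 4], [2, 3, 1, 4, 3, 2], [2, 3, 1, 4, 3, 2, 5], [2, 3, 1, 4, 3, 2, 5, 4], [2, 3, 1, 4, 3, 2, 5, 4, 3], [2, 3, 1, 4, 3, 2, 5, 4, 3, 1]]
  paths := [[some [], some [2, 0, 3, 1, 2, 3], some [2, 0], some [2, 0, 3, 2], some [2, 0, 3, 2, 4, 3], some [2, 0, 3, 2, 4, 3, 5, 4]], [some [3, 1, 2, 0, 3, 2], some [], some [3, 1, 2, 3], some [3, 1], some [3, 1, 4, 3], some [3, 1, 4, 3, 5, 4]], [some [0, 2], some [3, 1, 2, 3], some [], some [3, 2], some [3, 2, 4, 3], some [3, 2, 4, 3, 5, 4]], [some [2, 0, 3, 2], some [1, 3], some [2, 3], some [], some [4, 3], some [4, 3, 5, 4]], [some [3, 2, 0, 4, 3, 2], some [3, 1, 4, 3], some [3, 2, 4, 3], some [3, 4], some [], some [5, 4]], [some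 [4, 3, 2, 0, 5, 4, 3, 2], some [4, 3, 1, 5, 4, 3], some [4, 3, 2, 5, 4, 3], some [4, 3, 5, 4], some [4, 5], some []]]
  sums := []

/-- Words for E7. -/
def genE7 : GenCert where
  ws := [[0, 2, 3, 1, 4, 3, 2, 5, 4, 3, 1, 6, 5, 4, 3, 2, 0], [0, 2, 3, 1, 4, 3, 2, 5, 4, 3, 1, 6, 5, 4, 3, 2], [0, 2, 3, 1, 4, 3, 2, 5, 4, 3, 1, 6, 5, 4, 3], [0, 2, 3, 1, 4, 3, 2, 5, 4, 3, 1, 6, 5, 4], [0, 2, 3, 1, 4, 3, 2, 5, 4, 3, 1, 6, 5], [0, 2, 3, 1, 4, 3, 2, 5, 4, 3, 1, 6], [0, 2, 3, 1, 4, 3, 2, 5, 4, 3, 1], [0, 2, 3, 1, 4, 3, 2, 5, 4, 3, 6, 5, 4], [0, 2, 3, 1, 4, 3, 2, 5, 4, 3, 6, 5], [0, 2, 3, 1, 4, 3, 2, 5, 4, 3, 6], [0, 2, 3, 1, 4, 3, 2, 5, 4, 3], [0, 2, 3, 1, 4, 3, 2, 5, 4, 6, 5], [0, 2, 3, 1, 4, 3, 2, 5, 4, 6], [0, 2, 3, 1, 4, 3, 2, 5, 4], [0, 2, 3, 1, 4, 3, 2, 5, 6], [0, 2, 3, 1, 4, 3, 2, 5],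 [0, 2, 3, 1, 4, 3, 2], [0, 2, 3, 1, 4, 3, 5, 4, 6, 5], [0, 2, 3, 1, 4, 3, 5, 4, 6], [0, 2, 3, 1, 4, 3, 5, 4], [0, 2, 3, 1, 4, 3, 5, 6], [0, 2, 3, 1, 4, 3, 5], [0, 2, 3, 1, 4, 3], [0, 2, 3, 1, 4, 5, 6], [0, 2, 3, 1, 4, 5], [0, 2, 3, 1, 4], [0, 2, 3, 1], [0, 2, 3, 4, 5, 6], [0, 2, 3, 4, 5], [0, 2, 3, 4], [0, 2, 3], [0, 2], [0], [1, 3, 2, 4, 3, 5, 4, 6, 5], [1, 3, 2, 4, 3, 5, 4, 6], [1, 3, 2, 4, 3, 5, 4], [1, 3, 2, 4, 3, 5, 6], [1, 3, 2, 4, 3, 5], [1, 3, 2, 4, 3], [1, 3, 2, 4, 5, 6], [1, 3, 2, 4, 5], [1, 3, 2, 4], [1, 3, 2], [1, 3, 4, 5, 6], [1, 3, 4, 5], [1, 3, 4], [1, 3], [1], [2, 3, 4, 5, 6], [2, 3, 4, 5], [2, 3, 4], [2, 3], [2], [3, 4, 5, 6], [3, 4, 5], [3, 4], [3], [4, 5, 6], [4, 5], [4], [5, 6], [5], [6], [], [], [6], [], [5], [5, 6], [], [4], [4, 5], [4, 5, 6], [], [3], [3, 4],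 [3, 4, 5], [3, 4, 5, 6], [], [3], [3, 4], [3, 4, 5], [3, 4, 5, 6], [3, 2], [3, 2, 4], [3, 2, 4, 5], [3, 2, 4, 5, 6], [3, 2, 4, 3], [3, 2, 4, 3, 5], [3, 2, 4, 3, 5, 6], [3, 2, 4, 3, 5, 4], [3, 2, 4, 3, 5, 4, 6], [3, 2, 4, 3, 5, 4, 6, 5], [], [2], [2, 3], [2, 3, 4], [2, 3, 4, 5], [2, 3, 4, 5, 6], [2, 3, 1], [2, 3, 1, 4], [2, 3, 1, 4, 5], [2, 3, 1, 4, 5, 6], [2, 3, 1, 4, 3], [2, 3, 1, 4, 3, 5], [2, 3, 1, 4, 3, 5, 6], [2, 3, 1, 4, 3, 5, 4], [2, 3, 1, 4, 3, 5, 4, 6], [2, 3, 1, 4, 3, 5, 4, 6, 5], [2, 3, 1, 4, 3, 2], [2, 3, 1, 4, 3, 2, 5], [2, 3, 1, 4, 3, 2, 5, 6], [2, 3, 1, 4, 3, 2, 5, 4], [2, 3, 1, 4, 3, 2, 5, 4, 6], [2, 3, 1, 4, 3, 2, 5, 4, 6, 5], [2, 3, 1, 4, 3, 2, 5, 4, 3], [2, 3, 1, 4, 3, 2, 5, 4, 3, 6], [2, 3, 1, 4, 3, 2, 5, 4, 3, 6, 5], [2, 3, 1, 4, 3, 2, 5, 4, 3, 6, 5, 4], [2, 3,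 1, 4, 3, 2, 5, 4, 3, 1], [2, 3, 1, 4, 3, 2, 5, 4, 3, 1, 6], [2, 3, 1, 4, 3, 2, 5, 4, 3, 1, 6, 5], [2, 3, 1, 4, 3, 2, 5, 4, 3, 1, 6, 5, 4], [2, 3, 1, 4, 3, 2, 5, 4, 3, 1, 6, 5, 4, 3], [2, 3, 1, 4, 3, 2, 5, 4, 3, 1, 6, 5, 4, 3, 2], [2, 3, 1, 4, 3, 2, 5, 4, 3, 1, 6, 5, 4, 3, 2, 0]]
  paths := [[some [], some [2, 0, 3, 1, 2, 3], some [2, 0], some [2, 0, 3, 2], some [2, 0, 3, 2, 4, 3], some [2, 0, 3, 2, 4, 3, 5, 4], some [2, 0, 3, 2, 4, 3, 5, 4, 6, 5]], [some [3, 1, 2, 0, 3, 2], some [], some [3, 1, 2, 3], some [3, 1], some [3, 1, 4, 3], some [3, 1, 4, 3, 5, 4], some [3, 1, 4, 3, 5, 4, 6, 5]], [some [0, 2], some [3, 1, 2, 3], some [], some [3, 2], some [3, 2, 4, 3], some [3, 2, 4, 3, 5, 4], some [3, 2, 4, 3, 5, 4, 6, 5]], [some [2, 0, 3, 2], some [1, 3], some [2, 3], some [], some [4,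 3], some [4, 3, 5, 4], some [4, 3, 5, 4, 6, 5]], [some [3, 2, 0, 4, 3, 2], some [3, 1, 4, 3], some [3, 2, 4, 3], some [3, 4], some [], some [5, 4], some [5, 4, 6, 5]], [some [4, 3, 2, 0, 5, 4, 3, 2], some [4, 3, 1, 5, 4, 3], some [4, 3, 2, 5, 4, 3], some [4, 3, 5, 4], some [4, 5], some [], some [6, 5]], [some [5, 4, 3, 2, 0, 6, 5, 4, 3, 2], some [5, 4, 3, 1, 6, 5, 4, 3], some [5, 4, 3, 2, 6, 5, 4, 3], some [5, 4, 3, 6, 5, 4], some [5, 4, 6, 5], some [5, 6], some []]]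
  sums := []

/-- Words for E8. -/
def genE8 : GenCert where
  ws := [[0, 2, 3, 1, 4, 3, 2, 5, 4, 3, 1, 6, 5, 4, 3, 2, 0, 7, 6, 5, 4, 3, 1, 2, 3, 4, 5, 6, 7], [0, 2, 3, 1, 4, 3, 2, 5, 4, 3, 1, 6, 5, 4, 3, 2, 0, 7, 6, 5, 4, 3, 1, 2, 3, 4, 5, 6], [0, 2, 3, 1, 4, 3, 2, 5, 4, 3, 1, 6, 5, 4, 3, 2, 0, 7, 6, 5, 4, 3, 1, 2, 3, 4, 5], [0, 2, 3, 1, 4, 3, 2, 5, 4, 3, 1, 6, 5, 4, 3, 2, 0, 7, 6, 5, 4, 3, 1, 2, 3, 4], [0, 2, 3, 1, 4, 3, 2, 5, 4, 3, 1, 6, 5, 4, 3, 2, 0, 7, 6, 5, 4, 3, 1, 2, 3], [0, 2, 3, 1, 4, 3, 2, 5, 4, 3, 1, 6, 5, 4, 3, 2, 0, 7, 6, 5, 4, 3, 1, 2], [0, 2, 3, 1, 4, 3, 2, 5, 4, 3, 1, 6, 5, 4, 3, 2, 0, 7, 6, 5, 4, 3, 1], [0, 2, 3, 1, 4, 3, 2, 5, 4, 3, 1, 6, 5, 4, 3, 2, 0, 7, 6, 5, 4, 3, 2], [0, 2, 3, 1, 4, 3, 2, 5, 4, 3, 1, 6, 5, 4, 3, 2, 0, 7, 6, 5, 4, 3], [0, 2, 3, 1, 4, 3, 2,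 5, 4, 3, 1, 6, 5, 4, 3, 2, 0, 7, 6, 5, 4], [0, 2, 3, 1, 4, 3, 2, 5, 4, 3, 1, 6, 5, 4, 3, 2, 0, 7, 6, 5], [0, 2, 3, 1, 4, 3, 2, 5, 4, 3, 1, 6, 5, 4, 3, 2, 0, 7, 6], [0, 2, 3, 1, 4, 3, 2, 5, 4, 3, 1, 6, 5, 4, 3, 2, 0, 7], [0, 2, 3, 1, 4, 3, 2, 5, 4, 3, 1, 6, 5, 4, 3, 2, 0], [0, 2, 3, 1, 4, 3, 2, 5, 4, 3, 1, 6, 5, 4, 3, 2, 7, 6, 5, 4, 3, 1], [0, 2, 3, 1, 4, 3, 2, 5, 4, 3, 1, 6, 5, 4, 3, 2, 7, 6, 5, 4, 3], [0, 2, 3, 1, 4, 3, 2, 5, 4, 3, 1, 6, 5, 4, 3, 2, 7, 6, 5, 4], [0, 2, 3, 1, 4, 3, 2, 5, 4, 3, 1, 6, 5, 4, 3, 2, 7, 6, 5], [0, 2, 3, 1, 4, 3, 2, 5, 4, 3, 1, 6, 5, 4, 3, 2, 7, 6], [0, 2, 3, 1, 4, 3, 2, 5, 4, 3, 1, 6, 5, 4, 3, 2, 7], [0, 2, 3, 1, 4, 3, 2, 5, 4, 3, 1, 6, 5, 4, 3, 2], [0, 2, 3, 1, 4, 3, 2, 5, 4, 3, 1, 6, 5, 4, 3, 7, 6, 5, 4], [0, 2, 3, 1, 4, 3, 2, 5, 4, 3, 1, 6, 5, 4, 3,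 7, 6, 5], [0, 2, 3, 1, 4, 3, 2, 5, 4, 3, 1, 6, 5, 4, 3, 7, 6], [0, 2, 3, 1, 4, 3, 2, 5, 4, 3, 1, 6, 5, 4, 3, 7], [0, 2, 3, 1, 4, 3, 2, 5, 4, 3, 1, 6, 5, 4, 3], [0, 2, 3, 1, 4, 3, 2, 5, 4, 3, 1, 6, 5, 4, 7, 6, 5], [0, 2, 3, 1, 4, 3, 2, 5, 4, 3, 1, 6, 5, 4, 7, 6], [0, 2, 3, 1, 4, 3, 2, 5, 4, 3, 1, 6, 5, 4, 7], [0, 2, 3, 1, 4, 3, 2, 5, 4, 3, 1, 6, 5, 4], [0, 2, 3, 1, 4, 3, 2, 5, 4, 3, 1, 6, 5, 7, 6], [0, 2, 3, 1, 4, 3, 2, 5, 4, 3, 1, 6, 5, 7], [0, 2, 3, 1, 4, 3, 2, 5, 4, 3, 1, 6, 5], [0, 2, 3, 1, 4, 3, 2, 5, 4, 3, 1, 6, 7], [0, 2, 3, 1, 4, 3, 2, 5, 4, 3, 1, 6], [0, 2, 3, 1, 4, 3, 2, 5, 4, 3, 1], [0, 2, 3, 1, 4, 3, 2, 5, 4, 3, 6, 5, 4, 7, 6, 5], [0, 2, 3, 1, 4, 3, 2, 5, 4, 3, 6, 5, 4, 7, 6], [0, 2, 3, 1, 4, 3, 2, 5, 4, 3, 6, 5, 4, 7], [0, 2, 3, 1, 4, 3, 2, 5, 4, 3, 6, 5, 4], [0, 2, 3,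 1, 4, 3, 2, 5, 4, 3, 6, 5, 7, 6], [0, 2, 3, 1, 4, 3, 2, 5, 4, 3, 6, 5, 7], [0, 2, 3, 1, 4, 3, 2, 5, 4, 3, 6, 5], [0, 2, 3, 1, 4, 3, 2, 5, 4, 3, 6, 7], [0, 2, 3, 1, 4, 3, 2, 5, 4, 3, 6], [0, 2, 3, 1, 4, 3, 2, 5, 4, 3], [0, 2, 3, 1, 4, 3, 2, 5, 4, 6, 5, 7, 6], [0, 2, 3, 1, 4, 3, 2, 5, 4, 6, 5, 7], [0, 2, 3, 1, 4, 3, 2, 5, 4, 6, 5], [0, 2, 3, 1, 4, 3, 2, 5, 4, 6, 7], [0, 2, 3, 1, 4, 3, 2, 5, 4, 6], [0, 2, 3, 1, 4, 3, 2, 5, 4], [0, 2, 3, 1, 4, 3, 2, 5, 6, 7], [0, 2, 3, 1, 4, 3, 2, 5, 6], [0, 2, 3, 1, 4, 3, 2, 5], [0, 2, 3, 1, 4, 3, 2], [0, 2, 3, 1, 4, 3, 5, 4, 6, 5, 7, 6], [0, 2, 3, 1, 4, 3, 5, 4, 6, 5, 7], [0, 2, 3, 1, 4, 3, 5, 4, 6, 5], [0, 2, 3, 1, 4, 3, 5, 4, 6, 7], [0, 2, 3, 1, 4, 3, 5, 4, 6], [0, 2, 3, 1, 4, 3, 5, 4], [0, 2, 3, 1, 4, 3, 5, 6, 7], [0, 2, 3, 1, 4, 3, 5, 6], [0, 2,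 3, 1, 4, 3, 5], [0, 2, 3, 1, 4, 3], [0, 2, 3, 1, 4, 5, 6, 7], [0, 2, 3, 1, 4, 5, 6], [0, 2, 3, 1, 4, 5], [0, 2, 3, 1, 4], [0, 2, 3, 1], [0, 2, 3, 4, 5, 6, 7], [0, 2, 3, 4, 5, 6], [0, 2, 3, 4, 5], [0, 2, 3, 4], [0, 2, 3], [0, 2], [0], [1, 3, 2, 4, 3, 5, 4, 6, 5, 7, 6], [1, 3, 2, 4, 3, 5, 4, 6, 5, 7], [1, 3, 2, 4, 3, 5, 4, 6, 5], [1, 3, 2, 4, 3, 5, 4, 6, 7], [1, 3, 2, 4, 3, 5, 4, 6], [1, 3, 2, 4, 3, 5, 4], [1, 3, 2, 4, 3, 5, 6, 7], [1, 3, 2, 4, 3, 5, 6], [1, 3, 2, 4, 3, 5], [1, 3, 2, 4, 3], [1, 3, 2, 4, 5, 6, 7], [1, 3, 2, 4, 5, 6], [1, 3, 2, 4, 5], [1, 3, 2, 4], [1, 3, 2], [1, 3, 4, 5, 6, 7], [1, 3, 4, 5, 6], [1, 3, 4, 5], [1, 3, 4], [1, 3], [1], [2, 3, 4, 5, 6, 7], [2, 3, 4, 5, 6], [2, 3, 4, 5], [2, 3, 4], [2, 3], [2], [3, 4, 5, 6, 7], [3, 4, 5, 6], [3, 4, 5], [3, 4], [3], [4, 5,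 6, 7], [4, 5, 6], [4, 5], [4], [5, 6, 7], [5, 6], [5], [6, 7], [6], [7], [], [], [7], [], [6], [6, 7], [], [5], [5, 6], [5, 6, 7], [], [4], [4, 5], [4, 5, 6], [4, 5, 6, 7], [], [3], [3, 4], [3, 4, 5], [3, 4, 5, 6], [3, 4, 5, 6, 7], [], [3], [3, 4], [3, 4, 5], [3, 4, 5, 6], [3, 4, 5, 6, 7], [3, 2], [3, 2, 4], [3, 2, 4, 5], [3, 2, 4, 5, 6], [3, 2, 4, 5, 6, 7], [3, 2, 4, 3], [3, 2, 4, 3, 5], [3, 2, 4, 3, 5, 6], [3, 2, 4, 3, 5, 6, 7], [3, 2, 4, 3, 5, 4], [3, 2, 4, 3, 5, 4, 6], [3, 2, 4, 3, 5, 4, 6, 7], [3, 2, 4, 3, 5, 4, 6, 5], [3, 2, 4, 3, 5, 4, 6, 5, 7], [3, 2, 4, 3, 5, 4, 6, 5, 7, 6], [], [2], [2, 3], [2, 3, 4], [2, 3, 4, 5], [2, 3, 4, 5, 6], [2, 3, 4, 5, 6, 7], [2, 3, 1], [2, 3, 1, 4], [2, 3, 1, 4, 5], [2, 3, 1, 4, 5, 6], [2, 3, 1, 4, 5, 6, 7], [2, 3, 1, 4, 3], [2, 3, 1, 4, 3, 5],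 [2, 3, 1, 4, 3, 5, 6], [2, 3, 1, 4, 3, 5, 6, 7], [2, 3, 1, 4, 3, 5, 4], [2, 3, 1, 4, 3, 5, 4, 6], [2, 3, 1, 4, 3, 5, 4, 6, 7], [2, 3, 1, 4, 3, 5, 4, 6, 5], [2, 3, 1, 4, 3, 5, 4, 6, 5, 7], [2, 3, 1, 4, 3, 5, 4, 6, 5, 7, 6], [2, 3, 1, 4, 3, 2], [2, 3, 1, 4, 3, 2, 5], [2, 3, 1, 4, 3, 2, 5, 6], [2, 3, 1, 4, 3, 2, 5, 6, 7], [2, 3, 1, 4, 3, 2, 5, 4], [2, 3, 1, 4, 3, 2, 5, 4, 6], [2, 3, 1, 4, 3, 2, 5, 4, 6, 7], [2, 3, 1, 4, 3, 2, 5, 4, 6, 5], [2, 3, 1, 4, 3, 2, 5, 4, 6, 5, 7], [2, 3, 1, 4, 3, 2, 5, 4, 6, 5, 7, 6], [2, 3, 1, 4, 3, 2, 5, 4, 3], [2, 3, 1, 4, 3, 2, 5, 4, 3, 6], [2, 3, 1, 4, 3, 2, 5, 4, 3, 6, 7], [2, 3, 1, 4, 3, 2, 5, 4, 3, 6, 5], [2, 3, 1, 4, 3, 2, 5, 4, 3, 6, 5, 7], [2, 3, 1, 4, 3, 2, 5, 4, 3, 6, 5, 7, 6], [2, 3, 1, 4, 3, 2, 5, 4, 3, 6, 5, 4], [2, 3, 1, 4, 3, 2, 5, 4, 3, 6,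 5, 4, 7], [2, 3, 1, 4, 3, 2, 5, 4, 3, 6, 5, 4, 7, 6], [2, 3, 1, 4, 3, 2, 5, 4, 3, 6, 5, 4, 7, 6, 5], [2, 3, 1, 4, 3, 2, 5, 4, 3, 1], [2, 3, 1, 4, 3, 2, 5, 4, 3, 1, 6], [2, 3, 1, 4, 3, 2, 5, 4, 3, 1, 6, 7], [2, 3, 1, 4, 3, 2, 5, 4, 3, 1, 6, 5], [2, 3, 1, 4, 3, 2, 5, 4, 3, 1, 6, 5, 7], [2, 3, 1, 4, 3, 2, 5, 4, 3, 1, 6, 5, 7, 6], [2, 3, 1, 4, 3, 2, 5, 4, 3, 1, 6, 5, 4], [2, 3, 1, 4, 3, 2, 5, 4, 3, 1, 6, 5, 4, 7], [2, 3, 1, 4, 3, 2, 5, 4, 3, 1, 6, 5, 4, 7, 6], [2, 3, 1, 4, 3, 2, 5, 4, 3, 1, 6, 5, 4, 7, 6, 5], [2, 3, 1, 4, 3, 2, 5, 4, 3, 1, 6, 5, 4, 3], [2, 3, 1, 4, 3, 2, 5, 4, 3, 1, 6, 5, 4, 3, 7], [2, 3, 1, 4, 3, 2, 5, 4, 3, 1, 6, 5, 4, 3, 7, 6], [2, 3, 1, 4, 3, 2, 5, 4, 3, 1, 6, 5, 4, 3, 7, 6, 5], [2, 3, 1, 4, 3, 2, 5, 4, 3, 1, 6, 5, 4, 3, 7, 6, 5, 4], [2, 3, 1, 4, 3, 2, 5, 4, 3, 1,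 6, 5, 4, 3, 2], [2, 3, 1, 4, 3, 2, 5, 4, 3, 1, 6, 5, 4, 3, 2, 7], [2, 3, 1, 4, 3, 2, 5, 4, 3, 1, 6, 5, 4, 3, 2, 7, 6], [2, 3, 1, 4, 3, 2, 5, 4, 3, 1, 6, 5, 4, 3, 2, 7, 6, 5], [2, 3, 1, 4, 3, 2, 5, 4, 3, 1, 6, 5, 4, 3, 2, 7, 6, 5, 4], [2, 3, 1, 4, 3, 2, 5, 4, 3, 1, 6, 5, 4, 3, 2, 7, 6, 5, 4, 3], [2, 3, 1, 4, 3, 2, 5, 4, 3, 1, 6, 5, 4, 3, 2, 7, 6, 5, 4, 3, 1], [2, 3, 1, 4, 3, 2, 5, 4, 3, 1, 6, 5, 4, 3, 2, 0], [2, 3, 1, 4, 3, 2, 5, 4, 3, 1, 6, 5, 4, 3, 2, 0, 7], [2, 3, 1, 4, 3, 2, 5, 4, 3, 1, 6, 5, 4, 3, 2, 0, 7, 6], [2, 3, 1, 4, 3, 2, 5, 4, 3, 1, 6, 5, 4, 3, 2, 0, 7, 6, 5], [2, 3, 1, 4, 3, 2, 5, 4, 3, 1, 6, 5, 4, 3, 2, 0, 7, 6, 5, 4], [2, 3, 1, 4, 3, 2, 5, 4, 3, 1, 6, 5, 4, 3, 2, 0, 7, 6, 5, 4, 3], [2, 3, 1, 4, 3, 2, 5, 4, 3, 1, 6, 5, 4, 3, 2, 0, 7, 6, 5, 4, 3, 2], [2, 3, 1, 4, 3, 2,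 5, 4, 3, 1, 6, 5, 4, 3, 2, 0, 7, 6, 5, 4, 3, 1], [2, 3, 1, 4, 3, 2, 5, 4, 3, 1, 6, 5, 4, 3, 2, 0, 7, 6, 5, 4, 3, 1, 2], [2, 3, 1, 4, 3, 2, 5, 4, 3, 1, 6, 5, 4, 3, 2, 0, 7, 6, 5, 4, 3, 1, 2, 3], [2, 3, 1, 4, 3, 2, 5, 4, 3, 1, 6, 5, 4, 3, 2, 0, 7, 6, 5, 4, 3, 1, 2, 3, 4], [2, 3, 1, 4, 3, 2, 5, 4, 3, 1, 6, 5, 4, 3, 2, 0, 7, 6, 5, 4, 3, 1, 2, 3, 4, 5], [2, 3, 1, 4, 3, 2, 5, 4, 3, 1, 6, 5, 4, 3, 2, 0, 7, 6, 5, 4, 3, 1, 2, 3, 4, 5, 6], [2, 3, 1, 4, 3, 2, 5, 4, 3, 1, 6, 5, 4, 3, 2, 0, 7, 6, 5, 4, 3, 1, 2, 3, 4, 5, 6, 7]]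
  paths := [[some [], some [2, 0, 3, 1, 2, 3], some [2, 0], some [2, 0, 3, 2], some [2, 0, 3, 2, 4, 3], some [2, 0, 3, 2, 4, 3, 5, 4], some [2, 0, 3, 2, 4, 3, 5, 4, 6, 5], some [2, 0, 3, 2, 4, 3, 5, 4, 6, 5, 7, 6]], [some [3, 1, 2, 0, 3, 2], some [], some [3, 1, 2, 3], some [3, 1], some [3, 1, 4, 3], some [3, 1, 4, 3, 5, 4], some [3, 1, 4, 3, 5, 4, 6, 5], some [3, 1, 4, 3, 5, 4, 6, 5, 7, 6]], [some [0, 2], some [3, 1, 2, 3], some [], some [3, 2], some [3, 2, 4, 3], some [3, 2, 4, 3, 5, 4], some [3, 2, 4, 3, 5, 4, 6, 5], some [3, 2, 4, 3, 5, 4, 6, 5, 7, 6]], [some [2, 0, 3, 2], some [1, 3], some [2, 3], some [], some [4, 3], some [4, 3, 5, 4], some [4, 3, 5, 4, 6, 5], some [4, 3, 5, 4, 6, 5, 7, 6]], [some [3, 2, 0, 4, 3, 2], some [3, 1, 4, 3], some [3, 2, 4, 3], some [3, 4], some [],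 some [5, 4], some [5, 4, 6, 5], some [5, 4, 6, 5, 7, 6]], [some [4, 3, 2, 0, 5, 4, 3, 2], some [4, 3, 1, 5, 4, 3], some [4, 3, 2, 5, 4, 3], some [4, 3, 5, 4], some [4, 5], some [], some [6, 5], some [6, 5, 7, 6]], [some [5, 4, 3, 2, 0, 6, 5, 4, 3, 2], some [5, 4, 3, 1, 6, 5, 4, 3], some [5, 4, 3, 2, 6, 5, 4, 3], some [5, 4, 3, 6, 5, 4], some [5, 4, 6, 5], some [5, 6], some [], some [7, 6]], [some [6, 5, 4, 3, 2, 0, 7, 6, 5, 4, 3, 2], some [6, 5, 4, 3, 1, 7, 6, 5, 4, 3], some [6, 5, 4, 3, 2, 7, 6, 5, 4, 3], some [6, 5, 4, 3, 7, 6, 5, 4], some [6, 5, 4, 7, 6, 5], some [6, 5, 7, 6], some [6, 7], some []]]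
  sums := []

theorem genG2_short : chkShort G2Data.tab genG2 [3] = true := by decide +kernel

theorem genB2_short : chkShort B2Data.tab genB2 [2] = true := by decide +kernel

theorem genD4_short : chkShort D4Data.tab genD4 [] = true := by decide +kernel

theorem genF4_short : chkShort F4Data.tab genF4 [2] = true := by decide +kernel

theorem genE6_short : chkShort E6Data.tab genE6 [] = true := by decide +kernel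

theorem genE7_short : chkShort E7Data.tab genE7 [] = true := by decide +kernel

theorem genE8_short : chkShort E8Data.tab genE8 [] = true := by decide +kernel

theorem genG2_pair : chkPairGen G2Data.tab genG2 = true := by decide +kernel

theorem genB2_pair : chkPairGen B2Data.tab genB2 = true := by decide +kernel

theorem genF4_pair : chkPairGen F4Data.tab genF4 = true := by decide +kernel

include G in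
theorem group_le_short {C : GenCert} {U : List ℕ} (hU : ∀ c ∈ U, (c : F) ≠ 0)
    (h : chkShort T C U = true) {i : ℕ} (hi : i < D.rank) (hs : D.isLong (D.simple i) = false) :
    D.group F ≤ D.monomialSubgroup F ⊔ D.rootSubgroup F (D.simple i) := by
  have := (allBelow_iff _ _).1 h i hi
  rw [hs, Bool.false_or] at this
  exact group_le_of_chk G hU this _ le_sup_left (by simp)

include G in
theorem group_le_pair {C : GenCert} (h : chkPairGen T C = true) {i j : ℕ} (hi : i < D.rank)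
    (hj : j < D.rank) (hs : D.isLong (D.simple i) = false) (hl : D.isLong (D.simple j) = true)
    (hb : D.bonds i j ≠ 0) :
    D.group F ≤
      D.monomialSubgroup F ⊔ D.rootSubgroup F (D.simple i) ⊔ D.rootSubgroup F (D.simple j) := by
  have := (allBelow_iff _ _).1 ((allBelow_iff _ _).1 h i hi) j hj
  simp only [hs, hl, Bool.not_false, Bool.and_true, hb, ne_eq, not_false_eq_true, decide_true,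
    Bool.not_true, Bool.false_or] at this
  refine group_le_of_chk G (fun c hc => by simp at hc) this _ (le_sup_left.trans le_sup_left) ?_
  intro k hk
  simp only [List.mem_cons, List.not_mem_nil, or_false] at hk
  rcases hk with rfl | rfl
  exacts [le_sup_right.trans le_sup_left, le_sup_right]

end CfsgLib.ChevGen
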