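/-
Centres of the Weyl groups of the tabulated types.
-/
import Cfsg.Agent.Chev.CoxeterData

set_option autoImplicit false

namespace CfsgLib.ChevGen

open Cfsg.Lie CfsgLib.Chev

variable {D : ChevalleyDatum} (T : Tab D)

/-- The roots negated by a reflection, the highest root, and injectivity of the coordinates. -/
def chkCenter : Bool :=
  allBelow (fun i => allBelow (fun s => Nat.beq s (D.simple i) ||
    Nat.beq s (Tab.negR D (D.simple i)) || !(Nat.beq (T.reflT i s) (Tab.negR D s))) D.nroots)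
    D.rank &&
  Nat.blt (Nat.sub D.nroots 1) D.nroots && Nat.blt 0 D.rank &&
  allBelow (fun j => decide (0 < T.cor (Nat.sub D.nroots 1) j)) D.rank &&
  allBelow (fun s => allBelow (fun t => Nat.beq s t ||
    !(allBelow (fun j => decide (T.cor s j = T.cor t j)) D.rank)) D.nroots) D.nroots

/-- A power of the product of all reflections is the negation. -/
def chkNeg (m : ℕ) : Bool :=
  allBelow (fun s => Nat.beq (T.iterT (List.range D.rank) m s) (Tab.negR D s)) D.nroots

/-- An orbit of weights containing the first fundamental weight and not its negative. -/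
def chkNoNeg (O : List (List ℤ)) : Bool :=
  Nat.blt 0 D.rank && decide (Tab.fundW D 0 ∈ O) &&
  (List.range D.rank).all (fun j => O.all fun μ => decide (T.refW j μ ∈ O)) &&
  decide (((List.range D.rank).map fun i => T.cor (Tab.negR D (D.simple i)) 0) ∉ O)

variable {T} (G : T.Good)
include G

theorem central_cases (h : chkCenter T = true) {σ : Equiv.Perm (Fin D.nroots)}
    (hσ : σ ∈ G.full.WJ (List.range D.rank))
    (hc : ∀ i : Fin D.rank, σ * G.full.refl i = G.full.refl i * σ) :
    σ = 1 ∨ ∀ s, σ s = Tab.negF s := by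
  simp only [chkCenter, Bool.and_eq_true, allBelow_iff, Nat.blt_eq, Bool.or_eq_true, Nat.beq_eq,
    Bool.not_eq_true', decide_eq_true_eq] at h
  obtain ⟨⟨⟨⟨hneg, htop⟩, hrank⟩, hpos⟩, hinj⟩ := h
  have hsimp : ∀ l : Fin D.rank, ∃ ε : ℤ, (ε = 1 ∨ ε = -1) ∧
      ∀ j, T.cor (σ (G.full.simp' l)) j.val = ε * T.cor (G.full.simp' l) (j : Fin D.rank) := by
    intro l
    have e := congrArg (fun τ : Equiv.Perm (Fin D.nroots) => τ (G.full.simp' l)) (hc l)
    simp only [Equiv.Perm.mul_apply] at e
    rw [G.refl_simp, G.negF_WJ hσ] at e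
    rcases hneg l l.isLt _ (σ (G.full.simp' l)).isLt with (h1 | h1) | h1
    · exact ⟨1, Or.inl rfl, fun j => by rw [h1, one_mul]; rfl⟩
    · refine ⟨-1, Or.inr rfl, fun j => ?_⟩
      rw [h1, neg_one_mul]
      exact ((G.full.cert.root_spec (G.full.simple_lt l.isLt)).2.2.2.1 j j.isLt).2
    · have h2 : T.reflT l (σ (G.full.simp' l)).val = Tab.negR D (σ (G.full.simp' l)).val :=
        (congrArg Fin.val e).symm
      rw [h2, Nat.beq_refl] at h1
      exact Bool.noConfusion h1
  choose ε hε hcor using hsimp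
  have hlin : ∀ (s : Fin D.nroots) (j : Fin D.rank), T.cor (σ s) j = ε j * T.cor s j := by
    intro s j
    rw [G.cor_linear hσ, Finset.sum_eq_single j (fun l _ hl => by
      rw [hcor, G.cor_simple, if_neg (Ne.symm hl), mul_zero, mul_zero]) (by simp), hcor,
      G.cor_simple, if_pos rfl, mul_one, mul_comm]
  let top : Fin D.nroots := ⟨D.nroots - 1, htop⟩
  have hall : ∀ j, ε j = ε ⟨0, hrank⟩ := fun j => by
    have h1 : 0 < T.cor top.val j.val := hpos j j.isLt
    have h2 : 0 < T.cor top.val (⟨0, hrank⟩ : Fin D.rank).val := hpos 0 hrank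
    have e1 := hlin top j
    have e2 := hlin top ⟨0, hrank⟩
    have hlt := (σ top).isLt
    rcases hε j with a | a <;> rcases hε ⟨0, hrank⟩ with b | b <;> rw [a, b] <;> exfalso <;>
      rw [a] at e1 <;> rw [b] at e2
    · have := (G.pos_iff_cor hlt).1 (G.pos_of_cor_pos hlt j.isLt (by omega)) ⟨0, hrank⟩
      omega
    · have := (G.pos_iff_cor hlt).1 (G.pos_of_cor_pos hlt hrank (show 0 < T.cor (σ top) 0 by
        simp only [one_mul] at e2; rw [e2]; exact h2)) j
      omega
  have huniq : ∀ s t : Fin D.nroots, (∀ j : Fin D.rank, T.cor s j = T.cor t j) → s = t := by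
    intro s t e
    rcases hinj s s.isLt t t.isLt with h1 | h1
    · exact Fin.ext h1
    · rw [(allBelow_iff _ _).2 fun j hj => decide_eq_true (e ⟨j, hj⟩)] at h1
      exact Bool.noConfusion h1
  rcases hε ⟨0, hrank⟩ with e | e
  · exact Or.inl (Equiv.ext fun s => huniq _ _ fun j => by rw [hlin, hall, e, one_mul]; rfl)
  · refine Or.inr fun s => huniq _ _ fun j => ?_
    rw [hlin, hall, e, neg_one_mul]
    exact ((G.full.cert.root_spec s.isLt).2.2.2.1 j j.isLt).2.symm

theorem no_neg {O : List (List ℤ)} (h : chkNoNeg T O = true) {σ : Equiv.Perm (Fin D.nroots)}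
    (hσ : σ ∈ G.full.WJ (List.range D.rank)) : ¬ ∀ s, σ s = Tab.negF s := by
  simp only [chkNoNeg, Bool.and_eq_true, Nat.blt_eq, decide_eq_true_eq, List.all_eq_true,
    List.mem_range] at h
  obtain ⟨⟨⟨hr, hf⟩, hcl⟩, hno⟩ := h
  intro hs
  obtain ⟨L, -, rfl⟩ := G.exists_word_WJ hσ
  have key : ∀ L : List (Fin D.rank), G.full.wl 0 (G.full.pw L) ∈ O := by
    intro L
    induction L with
    | nil =>
      have := (G.wl_eq_fund_iff (J := List.range D.rank) ⟨0, hr⟩
        (σ := G.full.pw []) (G.pw_mem_full [])).2 (by simp [Tab.Full.pw, one_mem])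
      exact this ▸ hf
    | cons i L ih =>
      rw [G.pw_cons, G.wl_mul_refl ⟨0, hr⟩ (G.pw_mem_full L) i]
      exact hcl i i.isLt _ ih
  refine hno ?_
  convert key L using 1
  refine List.map_congr_left fun i hi => ?_
  rw [List.mem_range] at hi
  simp only [hi, dif_pos]
  have e : (G.full.pw L).symm (G.full.simp' ⟨i, hi⟩) = Tab.negF (G.full.simp' ⟨i, hi⟩) := by
    rw [Equiv.symm_apply_eq, hs, Tab.negF_negF]
  rw [e]
  rfl

theorem center_eq {M : CoxeterMatrix (Fin D.rank)}
    (hM : ∀ i j : Fin D.rank, orderOf (G.full.refl i * G.full.refl j) = M i j)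
    (h : chkCenter T = true) {m : ℕ} (hm : chkNeg T m = true) :
    Nat.card (Subgroup.center M.Group) = 2 ∧
      Subgroup.center M.Group ≤ Subgroup.zpowers ((List.finRange D.rank).map M.simple).prod := by
  obtain ⟨-, -, -, -, ψ, hψ, hs, hr⟩ := G.exists_coxeter ℚ M hM
  simp only [chkNeg, allBelow_iff, Nat.beq_eq] at hm
  set c := ((List.finRange D.rank).map M.simple).prod
  have hcm : ∀ s, ψ (c ^ m) s = Tab.negF s := fun s => by
    rw [map_pow, map_list_prod, List.map_map, show (ψ ∘ M.simple) = G.full.refl from funext hs]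
    refine Fin.ext ((G.pw_pow_apply _ m s).trans ?_)
    rw [List.map_coe_finRange_eq_range]
    exact hm s s.isLt
  have hcen : c ^ m ∈ Subgroup.center M.Group := by
    rw [Subgroup.mem_center_iff]
    intro g
    apply hψ
    have hg : ψ g ∈ G.full.WJ (List.range D.rank) := hr ▸ ⟨g, rfl⟩
    refine Equiv.ext fun s => ?_
    rw [map_mul, map_mul, Equiv.Perm.mul_apply, Equiv.Perm.mul_apply, hcm, hcm, G.negF_WJ hg]
  have hcases : ∀ z ∈ Subgroup.center M.Group, z = 1 ∨ z = c ^ m := fun z hz => by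
    rcases central_cases G h (σ := ψ z) (hr ▸ ⟨z, rfl⟩) (fun i => by
      rw [← hs, ← map_mul, ← map_mul, Subgroup.mem_center_iff.1 hz]) with e | e
    · exact Or.inl (hψ (e.trans ψ.map_one.symm))
    · exact Or.inr (hψ (Equiv.ext fun s => (e s).trans (hcm s).symm))
  have hne : c ^ m ≠ 1 := fun e => by
    have htop : D.nroots - 1 < D.nroots := by
      simp only [chkCenter, Bool.and_eq_true, Nat.blt_eq] at h
      exact h.1.1.1.2
    have h2 := hcm ⟨_, htop⟩
    rw [e, map_one, Equiv.Perm.one_apply] at h2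
    exact G.full.cert.negR_ne htop (congrArg Fin.val h2).symm
  refine ⟨?_, fun z hz => ?_⟩
  · rw [Nat.card_eq_two_iff]
    refine ⟨1, ⟨_, hcen⟩, fun e => hne (congrArg Subtype.val e).symm, ?_⟩
    refine Set.eq_univ_of_forall fun z => ?_
    rcases hcases z.1 z.2 with e | e
    · exact Or.inl (Subtype.ext e)
    · exact Or.inr (Subtype.ext e)
  · rcases hcases z hz with rfl | rfl
    · exact one_mem _
    · exact pow_mem (Subgroup.mem_zpowers _) _

theorem center_eq_bot {M : CoxeterMatrix (Fin D.rank)}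
    (hM : ∀ i j : Fin D.rank, orderOf (G.full.refl i * G.full.refl j) = M i j)
    (h : chkCenter T = true) {O : List (List ℤ)} (hO : chkNoNeg T O = true) :
    Nat.card (Subgroup.center M.Group) = 1 ∧
      Subgroup.center M.Group ≤ Subgroup.zpowers ((List.finRange D.rank).map M.simple).prod := by
  obtain ⟨-, -, -, -, ψ, hψ, hs, hr⟩ := G.exists_coxeter ℚ M hM
  have hbot : Subgroup.center M.Group = ⊥ := by
    rw [Subgroup.eq_bot_iff_forall]
    intro z hz
    rcases central_cases G h (σ := ψ z) (hr ▸ ⟨z, rfl⟩) (fun i => by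
      rw [← hs, ← map_mul, ← map_mul, Subgroup.mem_center_iff.1 hz]) with e | e
    · exact hψ (e.trans ψ.map_one.symm)
    · exact absurd e (no_neg G hO (hr ▸ ⟨z, rfl⟩))
  rw [hbot]
  exact ⟨by simp, bot_le⟩

omit G

/-- The weights in the orbit. -/
def orbitE6 : List (List ℤ) :=
  [[1, 0, 0, 0, 0, 0], [-1, 0, 1, 0, 0, 0], [0, 0, -1, 1, 0, 0], [0, 1, 0, -1, 1, 0], [0, -1, 0, 0, 1, 0], [0, 1, 0, 0, -1, 1], [0, -1, 0, 1, -1, 1], [0, 1, 0, 0, 0, -1], [0, 0, 1, -1, 0, 1], [0, -1, 0, 1, 0, -1], [1, 0, -1, 0, 0, 1], [0, 0, 1, -1, 1, -1], [-1, 0, 0, 0, 0, 1], [1, 0, -1, 0, 1, -1], [0, 0, 1, 0, -1, 0], [-1, 0, 0, 0, 1, -1], [1, 0, -1, 1, -1, 0], [-1, 0, 0, 1, -1, 0], [1, 1, 0, -1, 0, 0], [-1, 1, 1, -1, 0, 0], [1, -1, 0, 0, 0, 0], [-1, -1, 1, 0, 0, 0], [0, 1, -1, 0, 0, 0], [0, -1, -1, 1, 0, 0], [0, 0, 0, -1, 1, 0], [0, 0, 0, 0, -1, 1], [0, 0, 0, 0, 0, -1]]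

theorem center_G2 : chkCenter G2Data.tab = true := by decide +kernel

theorem center_B2 : chkCenter B2Data.tab = true := by decide +kernel

theorem center_D4 : chkCenter D4Data.tab = true := by decide +kernel

theorem center_F4 : chkCenter F4Data.tab = true := by decide +kernel

theorem center_E6 : chkCenter E6Data.tab = true := by decide +kernel

theorem center_E7 : chkCenter E7Data.tab = true := by decide +kernel

theorem center_E8 : chkCenter E8Data.tab = true := by decide +kernel

theorem neg_G2 : chkNeg G2Data.tab 3 = true := by decide +kernel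

theorem neg_B2 : chkNeg B2Data.tab 2 = true := by decide +kernel

theorem neg_D4 : chkNeg D4Data.tab 3 = true := by decide +kernel

theorem neg_F4 : chkNeg F4Data.tab 6 = true := by decide +kernel

theorem neg_E7 : chkNeg E7Data.tab 9 = true := by decide +kernel

theorem neg_E8 : chkNeg E8Data.tab 15 = true := by decide +kernel

theorem noNeg_E6 : chkNoNeg E6Data.tab orbitE6 = true := by decide +kernel

end CfsgLib.ChevGen
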